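import Groth.Agent.EtPBC.AffineLefMain
import Groth.Agent.EtPBC.ConstKilled
import Groth.Agent.EtMV.Main
import Groth.Agent.EtCohDesc.Retract
import Groth.Agent.S0659
import Mathlib

/-!
# Étale cohomological dimension from an affine covering
-/

set_option autoImplicit false
set_option backward.isDefEq.respectTransparency false
set_option backward.isDefEq.respectTransparency.types false
set_option linter.auxLemma false
set_option linter.style.haveILetI false

universe u

open CategoryTheory CategoryTheory.Limits CategoryTheory.Abelian AlgebraicGeometry Opposite TopologicalSpace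

noncomputable section

namespace Groth.Agent.EtCdCover

open EtPBC

attribute [local instance 100000] EtCoh.H._proof_1 EtMV.hext
attribute [local instance 200000] EtMV.hextAb

/-- Mayer-Vietoris bound on the cohomological dimension -/
theorem kVan_union {X : Scheme.{u}} (U V : X.Opens) (hUV : U ⊔ V = ⊤) {d e : ℕ} (hU : KVan U.toScheme d)
    (hV : KVan V.toScheme d) (hW : KVan (U ⊓ V : X.Opens).toScheme e) (hed : e + 1 ≤ d) : KVan X d := by
  intro m hm F hF q hq
  obtain ⟨p, rfl⟩ : ∃ p, q = p + 1 := ⟨q - 1, by omega⟩
  obtain ⟨δ, -, hδ, -, -⟩ := S0659.result X U V hUV F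
  have h1 := hU m hm _ (killed_pull U.ι hF) (p + 1) hq
  have h2 := hV m hm _ (killed_pull V.ι hF) (p + 1) hq
  have h3 := hW m hm _ (killed_pull (U ⊓ V).ι hF) p (by omega)
  refine ⟨fun a b => ?_⟩
  have hker : ∀ x, x ∈ (δ p).range := fun x => by
    rw [← hδ p]
    exact Prod.ext (Subsingleton.elim _ _) (Subsingleton.elim _ _)
  obtain ⟨a', rfl⟩ := hker a
  obtain ⟨b', rfl⟩ := hker b
  rw [Subsingleton.elim a' b']

/-- a scheme of finite type over a separably closed field covered by `m + 1` affines has `cd ≤ dim + m` -/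
theorem kVan_cover {k : Type u} [Field k] [IsSepClosed k] (n : ℕ) : ∀ (m : ℕ) (X : Scheme.{u})
    (c : X ⟶ Spec (CommRingCat.of k)) [LocallyOfFiniteType c] [X.IsSeparated], topologicalKrullDim X ≤ n →
    ∀ U : Fin (m + 1) → X.Opens, (∀ i, IsAffineOpen (U i)) → ⨆ i, U i = ⊤ → KVan X (n + m) := by
  intro m
  induction m with
  | zero =>
    intro X c _ _ hn U hU hcov
    have h0 : U 0 = ⊤ := by rw [← hcov]; exact le_antisymm (le_iSup U 0) (iSup_le fun i => by rw [Fin.fin_one_eq_zero i])
    haveI : IsAffine X := by
      have h := hU 0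
      rw [h0] at h
      haveI : IsAffine (⊤ : X.Opens).toScheme := h
      exact IsAffine.of_isIso X.topIso.inv
    exact affVan n k X c hn
  | succ m ih =>
    intro X c _ _ hn U hU hcov
    let U' : X.Opens := ⨆ i : Fin (m + 1), U i.castSucc
    have key : ∀ (W : X.Opens) (A : Fin (m + 1) → X.Opens), (∀ i, IsAffineOpen (A i)) → ⨆ i, A i = W →
        KVan W.toScheme (n + m) := by
      intro W A hA hW
      haveI : W.toScheme.IsSeparated := ⟨by
        rw [terminal.hom_ext (terminal.from W.toScheme) (W.ι ≫ terminal.from X)]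
        infer_instance⟩
      refine ih W.toScheme (W.ι ≫ c) (le_trans W.ι.isEmbedding.isInducing.topologicalKrullDim_le hn)
        (fun i => W.ι ⁻¹ᵁ A i) (fun i => (hA i).preimage_of_isOpenImmersion _ ?_) ?_
      · rw [Scheme.Opens.opensRange_ι, ← hW]
        exact le_iSup A i
      · rw [← Scheme.Hom.preimage_iSup, hW, Scheme.Opens.ι_preimage_self]
    have hUV : U' ⊔ U (Fin.last (m + 1)) = ⊤ := by
      rw [← hcov]
      refine le_antisymm (sup_le (iSup_le fun i => le_iSup U _) (le_iSup U _)) (iSup_le fun i => ?_)
      induction i using Fin.lastCases with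
      | last => exact le_sup_right
      | cast i => exact (le_iSup (fun i : Fin (m + 1) => U i.castSucc) i).trans le_sup_left
    have h1 : KVan U'.toScheme (n + m) := key U' _ (fun i => hU _) rfl
    have h2 : KVan (U (Fin.last (m + 1))).toScheme (n + m) :=
      key _ (fun _ => U (Fin.last (m + 1))) (fun _ => hU _) iSup_const
    have h3 : KVan (U' ⊓ U (Fin.last (m + 1)) : X.Opens).toScheme (n + m) := by
      refine key _ (fun i => U i.castSucc ⊓ U (Fin.last (m + 1))) (fun i => (hU _).inf (hU _)) ?_
      rw [iSup_inf_eq]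
    exact kVan_union _ _ hUV (fun a ha F hF q hq => h1 a ha F hF q (by omega))
      (fun a ha F hF q hq => h2 a ha F hF q (by omega)) h3 (by omega)

end Groth.Agent.EtCdCover
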